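import Groth.Agent.HenGeomInt.FormCat
import Groth.Agent.Hens.CompletionBranch
import Groth.Agent.S9237
import Groth.Agent.S9244

/-!
# Universally catenary rings from branch counts (EGA IV 18.9.7)
-/

set_option autoImplicit false
set_option linter.style.haveILetI false

universe u

open IsLocalRing

namespace Groth.Agent.HenGeomInt

/-- The completion only depends on the ring up to isomorphism. -/
theorem nonempty_completion_ringEquiv {A B : Type u} [CommRing A] [CommRing B] [IsLocalRing A]
    [IsLocalRing B] [IsNoetherianRing B] (e : A ≃+* B) :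
    Nonempty (AdicCompletion (maximalIdeal A) A ≃+* AdicCompletion (maximalIdeal B) B) := by
  let T := AdicCompletion (maximalIdeal B) B
  haveI : IsNoetherianRing T := RegLoc.Completion.isNoetherianRing_adicCompletion' _
  haveI : Module.FaithfullyFlat B T := Module.FaithfullyFlat.of_flat_of_isLocalHom
  letI : Algebra A T := ((algebraMap B T).comp e.toRingHom).toAlgebra
  have hm : (maximalIdeal A).map e.toRingHom = maximalIdeal B :=
    IsLocalRing.map_maximalIdeal_of_surjective _ e.surjective
  have hpow : ∀ n : ℕ, (maximalIdeal A ^ n).map (algebraMap A T) =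
      (maximalIdeal B ^ n).map (algebraMap B T) := fun n => by
    rw [show algebraMap A T = (algebraMap B T).comp e.toRingHom from rfl, ← Ideal.map_map,
      Ideal.map_pow, hm]
  haveI : IsAdicComplete ((maximalIdeal A).map (algebraMap A T)) T := by
    have h1 := hpow 1
    rw [pow_one, pow_one, ← AdicCompletion.maximalIdeal_eq_map] at h1
    rw [h1]
    infer_instance
  obtain ⟨E⟩ := Hensel.nonempty_completion_equiv (maximalIdeal A) T (fun n c => by
    obtain ⟨b, hb⟩ := Submodule.mkQ_surjective _ (c.val n)
    refine ⟨e.symm b, ?_⟩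
    rw [hpow, show algebraMap A T (e.symm b) = algebraMap B T b from
      congrArg (algebraMap B T) (e.apply_symm_apply b)]
    rw [← Submodule.restrictScalars_mem B, ← Ideal.smul_top_eq_map,
      AdicCompletion.pow_smul_top_eq_ker_eval (IsNoetherian.noetherian _), LinearMap.mem_ker, map_sub,
      sub_eq_zero]
    exact hb.symm) (fun n x hx => by
    rw [Ideal.mem_comap, hpow, show algebraMap A T x = algebraMap B T (e x) from rfl, ← Ideal.mem_comap,
      Ideal.comap_map_eq_self_of_faithfullyFlat] at hx
    rw [← hm, ← Ideal.map_pow] at hx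
    obtain ⟨y, hy, hyx⟩ := (Ideal.mem_map_iff_of_surjective _ e.surjective).1 hx
    rwa [← e.injective hyx])
  exact ⟨E.toRingEquiv⟩

theorem isFormallyEquidim_of_ringEquiv {A B : Type u} [CommRing A] [CommRing B] [IsLocalRing A]
    [IsLocalRing B] [IsNoetherianRing B] (e : A ≃+* B) (h : EGA4.IsFormallyEquidim A) :
    EGA4.IsFormallyEquidim B := by
  obtain ⟨E⟩ := nonempty_completion_ringEquiv e
  rw [EGA4.IsFormallyEquidim, Hensel.isEquidim_iff_of_surjective E.toRingHom E.surjective]
  intro Q hQ
  rw [← ringKrullDim_eq_of_ringEquiv E]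
  refine h Q ?_
  have hk : RingHom.ker E.toRingHom = (⊥ : Ideal _) := (RingHom.injective_iff_ker_eq_bot _).1 E.injective
  rwa [hk] at hQ

/-- If the completion has no more minimal primes than the ring, the ring is universally catenary. -/
theorem isUniversallyCatenary_of_card_minimalPrimes {S : Type u} [CommRing S] [IsLocalRing S]
    [IsNoetherianRing S]
    (h : ENat.card (minimalPrimes (AdicCompletion (maximalIdeal S) S)) ≤ ENat.card (minimalPrimes S)) :
    CAlg.IsUniversallyCatenary S := by
  let C := AdicCompletion (maximalIdeal S) S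
  haveI : IsNoetherianRing C := RegLoc.Completion.isNoetherianRing_adicCompletion' _
  haveI : Finite (minimalPrimes C) := (minimalPrimes.finite_of_isNoetherianRing C).to_subtype
  haveI : Finite (minimalPrimes S) := (minimalPrimes.finite_of_isNoetherianRing S).to_subtype
  let φ : minimalPrimes C → minimalPrimes S := fun Q =>
    ⟨_, Hens.comap_mem_minimalPrimes_of_flat (R := S) Q.2⟩
  have hsurj : Function.Surjective φ := fun P => by
    obtain ⟨Q, hQ, hQP⟩ := Hens.exists_minimalPrime_comap_eq (T := C) P.2
    exact ⟨⟨Q, hQ⟩, Subtype.ext hQP⟩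
  have hinj : Function.Injective φ := by
    rw [ENat.card_eq_coe_natCard, ENat.card_eq_coe_natCard, Nat.cast_le] at h
    exact (hsurj.bijective_of_nat_card_le h).injective
  refine Catenary61.isUniversallyCatenary fun p hp => ?_
  obtain ⟨P, hP, hPp⟩ := Ideal.exists_minimalPrimes_le (bot_le : (⊥ : Ideal S) ≤ p)
  haveI := hP.1.1
  haveI : IsLocalRing (S ⧸ P) := IsLocalRing.of_surjective' (Ideal.Quotient.mk P) Ideal.Quotient.mk_surjective
  -- `S / P` is formally equidimensional: one minimal prime over `P C`
  have heq : EGA4.IsFormallyEquidim (S ⧸ P) := by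
    haveI : Nontrivial (S ⧸ P) := Ideal.Quotient.nontrivial_iff.2 hP.1.1.ne_top
    obtain ⟨e⟩ := Hensel.nonempty_quotient_completion_equiv S P
    let f : C →+* AdicCompletion (maximalIdeal (S ⧸ P)) (S ⧸ P) :=
      e.symm.toRingHom.comp (Ideal.Quotient.mk _)
    have hf : Function.Surjective f := e.symm.surjective.comp Ideal.Quotient.mk_surjective
    have hker : RingHom.ker f = P.map (algebraMap S C) := by
      ext x
      rw [RingHom.mem_ker]
      change e.symm (Ideal.Quotient.mk _ x) = 0 ↔ _
      rw [map_eq_zero_iff _ e.symm.injective, Ideal.Quotient.eq_zero_iff_mem]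
    rw [EGA4.IsFormallyEquidim, Hensel.isEquidim_iff_of_surjective f hf, hker]
    intro Q hQ
    have hmin : ∀ Q ∈ (P.map (algebraMap S C)).minimalPrimes,
        Q ∈ minimalPrimes C ∧ Q.comap (algebraMap S C) = P := by
      intro Q hQ
      haveI := hQ.1.1
      have hover : Q.comap (algebraMap S C) = P := by
        refine le_antisymm ?_ (Ideal.map_le_iff_le_comap.mp hQ.1.2)
        obtain ⟨Q', hle, hQ', hlo⟩ := Ideal.exists_ideal_le_liesOver_of_le (p := P)
          (q := Q.under S) Q (Ideal.map_le_iff_le_comap.mp hQ.1.2)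
        have h2 := hQ.2 ⟨hQ', Ideal.map_le_iff_le_comap.mpr hlo.over.le⟩ hle
        exact (Ideal.comap_mono h2).trans hlo.over.ge
      refine ⟨Ideal.height_eq_zero_iff.1 ?_, hover⟩
      rw [Catenary61.height_eq_of_minimal (⟨P, inferInstance⟩ : PrimeSpectrum S) Q hQ hover]
      exact Ideal.height_eq_zero_iff.2 hP
    rw [ringKrullDim_eq_of_ringEquiv e, ringKrullDim_quotient Q,
      ringKrullDim_quotient (P.map (algebraMap S C))]
    refine congrArg (fun s : Set (PrimeSpectrum C) => Order.krullDim s) (Set.ext fun x =>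
      ⟨fun hx => (SetLike.coe_subset_coe.2 hQ.1.2).trans hx, fun hx => ?_⟩)
    obtain ⟨Q', hQ', hle⟩ := Ideal.exists_minimalPrimes_le (I := P.map (algebraMap S C))
      (J := x.asIdeal) hx
    obtain ⟨h1, h2⟩ := hmin Q hQ
    obtain ⟨h1', h2'⟩ := hmin Q' hQ'
    have : (⟨Q', h1'⟩ : minimalPrimes C) = ⟨Q, h1⟩ := hinj (Subtype.ext (h2'.trans h2.symm))
    obtain rfl : Q' = Q := congrArg Subtype.val this
    exact hle
  have hfc := isFormallyCatenary_of_isFormallyEquidim heq
  -- transfer from `(S/P)/(p/P)` to `S/p`
  haveI := Ideal.map_isPrime_of_surjective (f := Ideal.Quotient.mk P) Ideal.Quotient.mk_surjective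
    (I := p) (by rw [Ideal.mk_ker]; exact hPp)
  exact isFormallyEquidim_of_ringEquiv (DoubleQuot.quotQuotEquivQuotOfLE hPp) (hfc _)

end Groth.Agent.HenGeomInt
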