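import Groth.Agent.HenGeomInt.DimOne
import Groth.Agent.Hens.CompletionBranch
import Groth.Agent.Adic.Rig.Hom
import Groth.Agent.Adic.Rig.Flat
import Groth.Agent.RegLoc.Completion

/-!
# Branches of completions in dimension one
-/

set_option autoImplicit false
set_option linter.style.haveILetI false
universe u

open IsLocalRing

namespace Groth.Agent.HenGeomInt

theorem exists_sub_mem_of_completion (A : Type u) [CommRing A] [IsLocalRing A] [IsNoetherianRing A]
    (N : ℕ) (z : AdicCompletion (maximalIdeal A) A) :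
    ∃ a : A, z - algebraMap A (AdicCompletion (maximalIdeal A) A) a ∈
      (maximalIdeal A).map (algebraMap A (AdicCompletion (maximalIdeal A) A)) ^ N := by
  obtain ⟨a, ha⟩ := Adic.Rig.exists_sub_mem_pow_map (IsNoetherian.noetherian _) z N
  exact ⟨a, by rwa [← Ideal.map_pow]⟩

theorem eq_maximalIdeal_of_lt_of_ringKrullDim_le_one {C : Type u} [CommRing C] [IsLocalRing C]
    (h : ringKrullDim C ≤ 1) {P Q : Ideal C} [P.IsPrime] (hQ : Q.IsPrime) (hlt : P < Q) :
    Q = maximalIdeal C := by
  haveI : Ring.KrullDimLE 1 C := Ring.krullDimLE_iff.2 h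
  haveI := hQ
  by_contra hne
  have h1 : Q < maximalIdeal C := lt_of_le_of_ne (le_maximalIdeal hQ.ne_top) hne
  let l : LTSeries (PrimeSpectrum C) :=
    ((RelSeries.singleton _ ⟨P, inferInstance⟩).snoc ⟨Q, hQ⟩ hlt).snoc ⟨maximalIdeal C, inferInstance⟩
      (by rw [RelSeries.last_snoc]; exact h1)
  have hl := Order.LTSeries.length_le_krullDim l
  have : (2 : WithBot ℕ∞) ≤ 1 := le_trans (by simpa [l, ringKrullDim] using hl) h
  exact absurd this (by decide)

/-- In dimension one a dense flat extension of a henselian local ring has as many minimal primes. -/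
theorem card_minimalPrimes_eq {S C : Type u} [CommRing S] [HenselianLocalRing S] [IsNoetherianRing S]
    [CommRing C] [IsLocalRing C] [IsNoetherianRing C] [Algebra S C] [Module.Flat S C]
    [IsLocalHom (algebraMap S C)]
    (hdense : ∀ (N : ℕ) (z : C), ∃ d : S, z - algebraMap S C d ∈ (maximalIdeal S).map (algebraMap S C) ^ N)
    (hmax : (maximalIdeal S).map (algebraMap S C) = maximalIdeal C)
    (hdim : ringKrullDim C ≤ 1) :
    ENat.card (minimalPrimes C) = ENat.card (minimalPrimes S) := by
  refine ENat.card_congr (Equiv.ofBijective (fun Q : minimalPrimes C =>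
    (⟨_, Groth.Agent.Hens.comap_mem_minimalPrimes_of_flat Q.2⟩ : minimalPrimes S)) ⟨fun Q Q' h => ?_, fun P => ?_⟩)
  · haveI := Q'.2.1.1
    exact Subtype.ext (eq_of_comap_eq hdense hmax Q'.2 Q.2
      (fun R hR hlt => eq_maximalIdeal_of_lt_of_ringKrullDim_le_one hdim hR hlt)
      (congrArg Subtype.val h))
  · obtain ⟨Q, hQ, hQP⟩ := Groth.Agent.Hens.exists_minimalPrime_comap_eq (T := C) P.2
    exact ⟨⟨Q, hQ⟩, Subtype.ext hQP⟩

end Groth.Agent.HenGeomInt
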