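import Groth.Agent.Hensel.Local
import Groth.Agent.Hensel.GaloisStage
import Groth.Agent.AzInvLib.SH
import Mathlib.RingTheory.Flat.EquationalCriterion
import Mathlib.RingTheory.Flat.FaithfullyFlat.Algebra
import Mathlib.RingTheory.Nilpotent.Lemmas

/-!
# Dense flat extensions of henselian local domains: a branch of dimension one is the only one
-/

set_option autoImplicit false
set_option linter.style.haveILetI false
universe u

open IsLocalRing TensorProduct

namespace Groth.Agent.HenGeomInt

/-- An element of the maximal ideal of a local domain has no integral inverse. -/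
theorem not_isUnit_of_isIntegral_inverse {R L : Type u} [CommRing R] [CommRing L] [Nontrivial L]
    [Algebra R L] [FaithfulSMul R L] {a : R} (ha : ¬ IsUnit a) {u : L} (hu : IsIntegral R u) :
    algebraMap R L a * u ≠ 1 := by
  intro h
  let S := integralClosure R L
  haveI : FaithfulSMul R S := (faithfulSMul_iff_algebraMap_injective R S).2 fun x y hxy =>
    (FaithfulSMul.algebraMap_injective R L) (congrArg Subtype.val hxy)
  have hunit : IsUnit (algebraMap R S a) :=
    IsUnit.of_mul_eq_one ⟨u, hu⟩ (Subtype.ext h)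
  exact ha (isUnit_of_map_unit _ a hunit)

section Flat

variable {D E : Type u} [CommRing D] [CommRing E] [Algebra D E] [Module.Flat D E]

/-- Flat extensions commute with colon ideals by finitely many elements. -/
theorem mem_map_of_forall_mul_mem_span {ι : Type} [Finite ι] (g : ι → D) (t : D) (x : E)
    (w : ι → E) (h : ∀ i, algebraMap D E (g i) * x = algebraMap D E t * w i) :
    x ∈ Ideal.map (algebraMap D E) (Ideal.span {a | ∀ i, g i * a ∈ Ideal.span {t}}) := by
  classical
  haveI := Fintype.ofFinite ι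
  let f : (ι → D) →ₗ[D] D × (ι → D) := LinearMap.prod
    (∑ i, (LinearMap.proj i).smulRight (g i)) (-(t • LinearMap.id))
  let X : D × (ι → D) →ₗ[D] E := LinearMap.coprod ((LinearMap.id (R := D) (M := D)).smulRight x)
    (∑ i, (LinearMap.proj i).smulRight (w i))
  have hXf : X ∘ₗ f = 0 := by
    refine LinearMap.ext fun c => ?_
    simp [X, f, Finset.sum_apply, Finset.sum_smul]
    rw [add_neg_eq_zero, ← sub_eq_zero, ← Finset.sum_sub_distrib]
    refine Finset.sum_eq_zero fun i _ => ?_
    simp only [Algebra.smul_def, map_mul, map_neg, smul_eq_mul]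
    linear_combination algebraMap D E (c i) * h i
  obtain ⟨k, a, y, hya, haf⟩ := Module.Flat.exists_factorization_of_comp_eq_zero_of_free hXf
  have hx : x = X (1, 0) := by simp [X, Finset.sum_apply]
  rw [hx, hya, LinearMap.comp_apply, ← Finsupp.sum_single (a (1, 0)), map_finsuppSum]
  refine Ideal.sum_mem _ fun j _ => ?_
  dsimp only
  have hs : Finsupp.single j (a (1, 0) j) = (a (1, 0) j) • Finsupp.single j (1 : D) := by simp
  rw [hs, map_smul, Algebra.smul_def]
  refine Ideal.mul_mem_right _ _ (Ideal.mem_map_of_mem _ (Ideal.subset_span fun i => ?_))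
  have h1 := LinearMap.congr_fun haf (Pi.single i 1)
  have h2 : f (Pi.single i 1) = g i • ((1, 0) : D × (ι → D)) - t • ((0, Pi.single i 1) : D × (ι → D)) := by
    refine Prod.ext ?_ ?_
    · simp [f, Finset.sum_apply, Pi.single_apply]
    · simp [f]
  rw [LinearMap.comp_apply, h2, map_sub, map_smul, map_smul, LinearMap.zero_apply, sub_eq_zero] at h1
  refine Ideal.mem_span_singleton.2 ⟨a (0, Pi.single i 1) j, ?_⟩
  simpa [Finsupp.smul_apply] using congrArg (fun v => v j) h1

end Flat

section Domain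

variable {D E : Type u} [CommRing D] [IsDomain D] [HenselianLocalRing D] [IsNoetherianRing D]
  [CommRing E] [IsLocalRing E] [IsNoetherianRing E] [Algebra D E] [Module.Flat D E]
  [IsLocalHom (algebraMap D E)]

omit [HenselianLocalRing D] [IsNoetherianRing D] [IsLocalRing E] [IsNoetherianRing E]
  [IsLocalHom (algebraMap D E)] in
/-- Minimal primes of a flat algebra over a domain contract to zero. -/
theorem comap_eq_bot_of_mem_minimalPrimes {P : Ideal E} (hP : P ∈ minimalPrimes E) :
    P.comap (algebraMap D E) = ⊥ := by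
  haveI := hP.1.1
  haveI : P.LiesOver (P.comap (algebraMap D E)) := ⟨rfl⟩
  obtain ⟨R, hle, hR, hRl⟩ := Ideal.exists_ideal_le_liesOver_of_le (p := (⊥ : Ideal D))
    (q := P.comap (algebraMap D E)) P bot_le
  have hR' : R = P := le_antisymm hle (hP.2 ⟨hR, bot_le⟩ hle)
  rw [← hR']
  exact hRl.over.symm

/-- A flat dense extension of a henselian local domain which is not a field has a connected punctured
spectrum: two ideals with product zero and sum primary to the maximal ideal cannot both lie in primes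
contracting to zero. -/
theorem false_of_separated
    (hdense : ∀ (N : ℕ) (z : E), ∃ d : D, z - algebraMap D E d ∈ (maximalIdeal D).map (algebraMap D E) ^ N)
    (hmax : (maximalIdeal D).map (algebraMap D E) = maximalIdeal E) (hfld : maximalIdeal D ≠ ⊥)
    {I₁ I₂ P P' : Ideal E} (hmul : I₁ * I₂ = ⊥) (hrad : maximalIdeal E ≤ (I₁ ⊔ I₂).radical)
    [P.IsPrime] [P'.IsPrime] (h₁ : I₁ ≤ P) (h₂ : I₂ ≤ P')
    (hPD : P.comap (algebraMap D E) = ⊥) (hP'D : P'.comap (algebraMap D E) = ⊥) : False := by
  classical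
  obtain ⟨t, htm, ht0⟩ := Submodule.exists_mem_ne_zero_of_ne_bot hfld
  obtain ⟨M, hM⟩ := Ideal.exists_pow_le_of_le_radical_of_fg (I := maximalIdeal E) (J := I₁ ⊔ I₂)
    hrad (IsNoetherian.noetherian _)
  have hsplit : ∀ a ∈ maximalIdeal D ^ M, ∃ p ∈ I₁, ∃ r ∈ I₂, p + r = algebraMap D E a := fun a ha => by
    have h := Ideal.mem_map_of_mem (algebraMap D E) ha
    rw [Ideal.map_pow, hmax] at h
    exact Submodule.mem_sup.1 (hM h)
  have hortho : ∀ p ∈ I₁, ∀ r ∈ I₂, p * r = 0 := fun p hp r hr => by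
    have h := Ideal.mul_mem_mul hp hr
    rwa [hmul] at h
  let n := M
  obtain ⟨p, hp, x, hx, hpx'⟩ := hsplit (t ^ n) (Ideal.pow_mem_pow htm n)
  have hpx : p + x = algebraMap D E t ^ n := by rw [hpx', map_pow]
  have hxx : x * x = algebraMap D E t ^ n * x := by rw [← hpx, add_mul, hortho p hp x hx, zero_add]
  obtain ⟨r, g, hg⟩ := Submodule.fg_iff_exists_fin_generating_family.1
    (IsNoetherian.noetherian (maximalIdeal D ^ M))
  have hw : ∀ i, ∃ w, algebraMap D E (g i) * x = algebraMap D E (t ^ n) * w := fun i => by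
    obtain ⟨p', hp', r', hr', hpr⟩ := hsplit (g i) (hg ▸ Submodule.subset_span ⟨i, rfl⟩)
    refine ⟨r', ?_⟩
    rw [← hpr, map_pow, ← hpx, add_mul, add_mul, hortho p' hp' x hx, hortho p hp r' hr', mul_comm r' x]
  choose w hw using hw
  have hxc := mem_map_of_forall_mul_mem_span g (t ^ n) x w hw
  -- hence congruent to an element of the base
  obtain ⟨c, z, hxcz⟩ : ∃ c : D, ∃ z : E, x = algebraMap D E c + algebraMap D E t ^ n * z := by
    suffices hmem : ∀ y ∈ Ideal.map (algebraMap D E) (Ideal.span {a | ∀ i, g i * a ∈ Ideal.span {t ^ n}}),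
        ∀ e : E, ∃ c : D, ∃ z : E, e * y = algebraMap D E c + algebraMap D E t ^ n * z by
      simpa using hmem x hxc 1
    intro y hy
    rw [Ideal.map_span] at hy
    induction hy using Submodule.span_induction with
    | mem y hy =>
      obtain ⟨a, ha, rfl⟩ := hy
      intro e
      obtain ⟨d, hd⟩ := hdense M e
      have hdiv : (e - algebraMap D E d) * algebraMap D E a ∈
          Ideal.span {algebraMap D E t ^ n} := by
        have hsub : maximalIdeal D ^ M * Ideal.span {a} ≤ Ideal.span {t ^ n} := by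
          rw [← hg, Ideal.span_mul_span', Ideal.span_le]
          rintro _ ⟨_, ⟨i, rfl⟩, _, rfl, rfl⟩
          exact ha i
        have h := Ideal.mul_mem_mul hd (Ideal.mem_span_singleton_self (algebraMap D E a))
        rw [← Ideal.map_pow, ← Set.image_singleton, ← Ideal.map_span, ← Ideal.map_mul] at h
        have h' := Ideal.map_mono hsub h
        rwa [Ideal.map_span, Set.image_singleton, map_pow] at h'
      obtain ⟨z, hz⟩ := Ideal.mem_span_singleton'.1 hdiv
      exact ⟨d * a, z, by rw [map_mul]; linear_combination -hz⟩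
    | zero => exact fun e => ⟨0, 0, by simp⟩
    | add y₁ y₂ _ _ h₁ h₂ =>
      intro e
      obtain ⟨c₁, z₁, e₁⟩ := h₁ e
      obtain ⟨c₂, z₂, e₂⟩ := h₂ e
      exact ⟨c₁ + c₂, z₁ + z₂, by rw [mul_add, e₁, e₂, map_add]; ring⟩
    | smul s y _ h =>
      intro e
      obtain ⟨c, z, e'⟩ := h (e * s)
      exact ⟨c, z, by rw [smul_eq_mul, ← mul_assoc, e']⟩
  haveI : Module.FaithfullyFlat D E := Module.FaithfullyFlat.of_flat_of_isLocalHom
  have hc2 : c * c ∈ Ideal.span {t ^ n * c, t ^ n * t ^ n} := by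
    rw [← Ideal.comap_map_eq_self_of_faithfullyFlat (B := E) (Ideal.span {t ^ n * c, t ^ n * t ^ n}),
      Ideal.mem_comap, Ideal.map_span, Set.image_pair]
    simp only [map_mul, map_pow]
    refine Ideal.mem_span_pair.2 ⟨1 - 2 * z, z - z * z, ?_⟩
    rw [hxcz] at hxx
    linear_combination -hxx
  obtain ⟨α, β, hαβ⟩ := Ideal.mem_span_pair.1 hc2
  -- the element `v = c / t ^ n`
  let K := FractionRing D
  let v : K := algebraMap D K c / algebraMap D K (t ^ n)
  have htK : algebraMap D K (t ^ n) ≠ 0 := by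
    simpa using pow_ne_zero n ht0
  have hcv : algebraMap D K c = v * algebraMap D K (t ^ n) := (div_mul_cancel₀ _ htK).symm
  have hvrel : v * v = algebraMap D K α * v + algebraMap D K β := by
    have h := congrArg (algebraMap D K) hαβ
    simp only [map_add, map_mul] at h
    rw [hcv] at h
    refine mul_right_cancel₀ (mul_ne_zero htK htK) ?_
    linear_combination -h
  have hvint : IsIntegral D v := by
    refine ⟨Polynomial.X ^ 2 + (-(Polynomial.C α * Polynomial.X + Polynomial.C β)),
      Polynomial.monic_X_pow_add ?_, ?_⟩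
    · rw [Polynomial.degree_neg]
      exact lt_of_le_of_lt Polynomial.degree_linear_le (by norm_num)
    · simp only [Polynomial.eval₂_add, Polynomial.eval₂_neg, Polynomial.eval₂_pow, Polynomial.eval₂_X,
        Polynomial.eval₂_mul, Polynomial.eval₂_C]
      linear_combination hvrel
  let A := Algebra.adjoin D ({v} : Set K)
  haveI : Module.Finite D A := Module.Finite.iff_fg.2 hvint.fg_adjoin_singleton
  haveI : IsLocalRing A := Hensel.isLocalRing_of_finite_domain (R := D) A
  obtain ⟨d, hd⟩ := hdense 1 z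
  rw [pow_one, hmax] at hd
  let a₀ : A := ⟨v, Algebra.subset_adjoin rfl⟩ + algebraMap D A d
  -- `a₀` and `a₀ - 1` are both non units
  have key : ∀ (Q : Ideal E) (_ : Q.IsPrime), Q.comap (algebraMap D E) = ⊥ → ∀ ε : D,
      x - algebraMap D E (ε * t ^ n) ∈ Q → ¬ IsUnit (a₀ - algebraMap D A ε) := by
    intro Q hQ hQD ε hε hunit
    let L := FractionRing (E ⧸ Q)
    have hinj : Function.Injective (algebraMap D L) := by
      rw [IsScalarTower.algebraMap_eq D (E ⧸ Q) L, RingHom.coe_comp]
      refine (IsFractionRing.injective (E ⧸ Q) L).comp ?_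
      rw [injective_iff_map_eq_zero]
      intro b hb
      rw [IsScalarTower.algebraMap_apply D E (E ⧸ Q), Ideal.Quotient.algebraMap_eq,
        Ideal.Quotient.eq_zero_iff_mem] at hb
      have hb' : b ∈ Q.comap (algebraMap D E) := hb
      rwa [hQD] at hb'
    let i : K →ₐ[D] L := IsFractionRing.liftAlgHom (g := Algebra.ofId D L) hinj
    obtain ⟨u, hu⟩ := hunit.exists_right_inv
    have hint : IsIntegral (E ⧸ Q) (i (u : K)) :=
      IsIntegral.tower_top ((Algebra.IsIntegral.isIntegral (R := D) u).map (i.comp A.val))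
    refine not_isUnit_of_isIntegral_inverse (R := E ⧸ Q) (L := L)
      (a := Ideal.Quotient.mk Q (algebraMap D E d - z)) ?_ hint ?_
    · intro h
      haveI : IsLocalHom (Ideal.Quotient.mk Q) := Ideal.Quotient.mk_surjective.isLocalHom _
      have h' := isUnit_of_map_unit (Ideal.Quotient.mk Q) _ h
      rw [← neg_sub, IsUnit.neg_iff] at h'
      exact hd h'
    · have h1 := congrArg (fun b : A => i (b : K)) hu
      simp only [a₀, MulMemClass.coe_mul, AddMemClass.coe_add, OneMemClass.coe_one, map_one,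
        map_mul, map_sub, map_add, Subalgebra.coe_algebraMap, AddSubgroupClass.coe_sub,
        AlgHom.commutes] at h1
      have hiv : i v * algebraMap D L (t ^ n) =
          algebraMap D L (ε * t ^ n) - algebraMap D L (t ^ n) * algebraMap (E ⧸ Q) L (Ideal.Quotient.mk Q z) := by
        rw [← AlgHom.commutes i (t ^ n), ← map_mul, ← hcv, AlgHom.commutes]
        rw [AlgHom.commutes, IsScalarTower.algebraMap_apply D (E ⧸ Q) L c,
          IsScalarTower.algebraMap_apply D (E ⧸ Q) L (ε * t ^ n),
          IsScalarTower.algebraMap_apply D (E ⧸ Q) L (t ^ n), ← map_mul, ← map_sub]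
        congr 1
        simp only [IsScalarTower.algebraMap_apply D E (E ⧸ Q), Ideal.Quotient.algebraMap_eq,
          ← map_mul, ← map_sub]
        refine Ideal.Quotient.eq.2 ?_
        convert hε using 1
        rw [hxcz, map_mul, map_pow]
        ring
      have htL : algebraMap D L (t ^ n) ≠ 0 := fun h =>
        pow_ne_zero n ht0 (hinj (h.trans (map_zero _).symm))
      have hiv' : i v = algebraMap D L ε - algebraMap (E ⧸ Q) L (Ideal.Quotient.mk Q z) := by
        refine mul_right_cancel₀ htL ?_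
        rw [hiv, map_mul, sub_mul]
        ring
      rw [hiv'] at h1
      rw [map_sub, map_sub]
      have hd' : algebraMap (E ⧸ Q) L (Ideal.Quotient.mk Q (algebraMap D E d)) = algebraMap D L d := by
        rw [IsScalarTower.algebraMap_apply D (E ⧸ Q) L, IsScalarTower.algebraMap_apply D E (E ⧸ Q),
          Ideal.Quotient.algebraMap_eq]
      rw [hd']
      linear_combination h1
  have hpk : p ∈ P := h₁ hp
  have h1 : ¬ IsUnit (a₀ - algebraMap D A 1) := key P inferInstance hPD 1 (by
    have : x - algebraMap D E (1 * t ^ n) = -p := by rw [one_mul, map_pow, ← hpx]; ring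
    rw [this]
    exact neg_mem hpk)
  have h0 : ¬ IsUnit (a₀ - algebraMap D A 0) := key P' inferInstance hP'D 0 (by
    rw [zero_mul, map_zero, sub_zero]
    exact h₂ hx)
  rw [map_one] at h1
  rw [map_zero, sub_zero] at h0
  have h01 : (1 : A) ∈ maximalIdeal A := by
    have := (maximalIdeal A).sub_mem (show a₀ ∈ maximalIdeal A from h0) (show a₀ - 1 ∈ maximalIdeal A from h1)
    rwa [sub_sub_cancel] at this
  exact (maximalIdeal.isMaximal A).ne_top ((Ideal.eq_top_iff_one _).2 h01)

/-- If a flat dense extension of a henselian local domain has a minimal prime with at most one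
dimensional quotient, it has no other minimal prime. -/
theorem eq_of_mem_minimalPrimes
    (hdense : ∀ (N : ℕ) (z : E), ∃ d : D, z - algebraMap D E d ∈ (maximalIdeal D).map (algebraMap D E) ^ N)
    (hmax : (maximalIdeal D).map (algebraMap D E) = maximalIdeal E)
    {P P' : Ideal E} (hP : P ∈ minimalPrimes E) (hP' : P' ∈ minimalPrimes E)
    (hdim : ∀ Q : Ideal E, Q.IsPrime → P < Q → Q = maximalIdeal E) : P' = P := by
  classical
  by_contra hne
  haveI := hP.1.1
  haveI := hP'.1.1
  have hfld : maximalIdeal D ≠ ⊥ := fun hbot => by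
    have h0 : maximalIdeal E = ⊥ := by rw [← hmax, hbot, Ideal.map_bot]
    have : ∀ Q : Ideal E, Q.IsPrime → Q = ⊥ := fun Q hQ =>
      le_bot_iff.1 (h0 ▸ le_maximalIdeal hQ.ne_top)
    exact hne ((this P' inferInstance).trans (this P inferInstance).symm)
  have hPD := comap_eq_bot_of_mem_minimalPrimes (D := D) hP
  have hP'D := comap_eq_bot_of_mem_minimalPrimes (D := D) hP'
  -- the intersection of the other minimal primes
  have hfin : (minimalPrimes E).Finite := minimalPrimes.finite_of_isNoetherianRing E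
  let R : Ideal E := (hfin.toFinset.erase P).inf id
  have hRP' : R ≤ P' := Finset.inf_le (f := id) (Finset.mem_erase.2 ⟨hne, hfin.mem_toFinset.2 hP'⟩)
  have hnil : P * R ≤ nilradical E := by
    rw [nilradical_eq_sInf, le_sInf_iff]
    intro Q hQ
    haveI : Q.IsPrime := hQ
    obtain ⟨Q₀, hQ₀, hle⟩ := Ideal.exists_minimalPrimes_le (bot_le : (⊥ : Ideal E) ≤ Q)
    refine le_trans ?_ hle
    by_cases h : Q₀ = P
    · exact h ▸ Ideal.mul_le_left
    · exact Ideal.mul_le_right.trans
        (Finset.inf_le (f := id) (Finset.mem_erase.2 ⟨h, hfin.mem_toFinset.2 hQ₀⟩))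
  obtain ⟨k, hk⟩ := IsNoetherianRing.isNilpotent_nilradical E
  have hk1 : (P * R) ^ (k + 1) = ⊥ := le_bot_iff.1 <| calc
    (P * R) ^ (k + 1) ≤ (P * R) ^ k := Ideal.pow_le_pow_right k.le_succ
    _ ≤ nilradical E ^ k := Ideal.pow_right_mono hnil k
    _ = ⊥ := hk
  have hlt : P < P ⊔ R := by
    refine lt_of_le_of_ne le_sup_left fun heq => ?_
    have hRP : R ≤ P := heq ▸ le_sup_right
    obtain ⟨Q, hQ, hQP⟩ := ((inferInstance : P.IsPrime).inf_le').1 hRP
    obtain ⟨hQne, hQm⟩ := Finset.mem_erase.1 hQ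
    exact hQne (le_antisymm hQP (hP.2 ⟨(hfin.mem_toFinset.1 hQm).1.1, bot_le⟩ hQP))
  have hrad : maximalIdeal E ≤ (P ^ (k + 1) ⊔ R ^ (k + 1)).radical := by
    rw [Ideal.radical_eq_sInf, le_sInf_iff]
    rintro Q ⟨hQle, hQ⟩
    have h1 : P ≤ Q := hQ.le_of_pow_le (le_sup_left.trans hQle)
    have h2 : R ≤ Q := hQ.le_of_pow_le (le_sup_right.trans hQle)
    exact (hdim Q hQ (hlt.trans_le (sup_le h1 h2))).ge
  refine false_of_separated hdense hmax hfld (I₁ := P ^ (k + 1)) (I₂ := R ^ (k + 1)) (P := P)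
    (P' := P') ?_ hrad (Ideal.pow_le_self (Nat.succ_ne_zero k))
    ((Ideal.pow_le_self (Nat.succ_ne_zero k)).trans hRP') hPD hP'D
  rw [← mul_pow, hk1]

end Domain

/-- The version for an arbitrary henselian local base: a minimal prime with at most one dimensional
quotient is the only one over its contraction. -/
theorem eq_of_comap_eq {S C : Type u} [CommRing S] [HenselianLocalRing S] [IsNoetherianRing S]
    [CommRing C] [IsLocalRing C] [IsNoetherianRing C] [Algebra S C] [Module.Flat S C]
    [IsLocalHom (algebraMap S C)]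
    (hdense : ∀ (N : ℕ) (z : C), ∃ d : S, z - algebraMap S C d ∈ (maximalIdeal S).map (algebraMap S C) ^ N)
    (hmax : (maximalIdeal S).map (algebraMap S C) = maximalIdeal C)
    {P P' : Ideal C} (hP : P ∈ minimalPrimes C) (hP' : P' ∈ minimalPrimes C)
    (hdim : ∀ Q : Ideal C, Q.IsPrime → P < Q → Q = maximalIdeal C)
    (h : P'.comap (algebraMap S C) = P.comap (algebraMap S C)) : P' = P := by
  haveI := hP.1.1
  haveI := hP'.1.1
  set q := P.comap (algebraMap S C) with hq
  let J := q.map (algebraMap S C)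
  let E := C ⧸ J
  have hJP : J ≤ P := Ideal.map_le_iff_le_comap.2 le_rfl
  have hJP' : J ≤ P' := Ideal.map_le_iff_le_comap.2 h.ge
  haveI : Nontrivial E := Ideal.Quotient.nontrivial_iff.2 fun htop =>
    (inferInstance : P.IsPrime).ne_top (top_le_iff.1 (htop ▸ hJP))
  haveI : IsLocalRing E := IsLocalRing.of_surjective' _ Ideal.Quotient.mk_surjective
  haveI : HenselianLocalRing (S ⧸ q) :=
    Groth.Agent.AzInvLib.henselianLocalRing_of_surjective (Ideal.Quotient.mk q) Ideal.Quotient.mk_surjective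
  letI : Algebra (S ⧸ q) E := (Ideal.quotientMap J (algebraMap S C) Ideal.le_comap_map).toAlgebra
  haveI : Module.Flat (S ⧸ q) E := by
    haveI : IsScalarTower S (S ⧸ q) E := .of_algebraMap_eq' rfl
    let e₀ : (S ⧸ q) ⊗[S] C ≃ₗ[S] E :=
      (TensorProduct.quotTensorEquivQuotSMul C q).trans
        ((Submodule.quotEquivOfEq _ _ (Ideal.smul_top_eq_map (S := C) q)).trans
          (Submodule.Quotient.restrictScalarsEquiv S (J : Submodule C C)))
    exact Module.Flat.of_linearEquiv (e₀.extendScalarsOfSurjective Ideal.Quotient.mk_surjective).symm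
  haveI : IsLocalHom (Ideal.Quotient.mk J) := Ideal.Quotient.mk_surjective.isLocalHom _
  have hmapS : (maximalIdeal S).map (Ideal.Quotient.mk q) = maximalIdeal (S ⧸ q) :=
    IsLocalRing.map_maximalIdeal_of_surjective _ Ideal.Quotient.mk_surjective
  have hmapE : ∀ N : ℕ, ((maximalIdeal S).map (algebraMap S C) ^ N).map (Ideal.Quotient.mk J) =
      (maximalIdeal (S ⧸ q)).map (algebraMap (S ⧸ q) E) ^ N := fun N => by
    rw [← hmapS, Ideal.map_pow, Ideal.map_map, Ideal.map_map]
    rfl
  haveI : IsLocalHom (algebraMap (S ⧸ q) E) := ⟨fun a ha => by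
    obtain ⟨s, rfl⟩ := Ideal.Quotient.mk_surjective a
    have : IsUnit (Ideal.Quotient.mk J (algebraMap S C s)) := ha
    exact ((isUnit_of_map_unit (algebraMap S C) s (isUnit_of_map_unit _ _ this))).map _⟩
  have hmin : ∀ {R : Ideal C}, R ∈ minimalPrimes C → J ≤ R → R.map (Ideal.Quotient.mk J) ∈ minimalPrimes E := by
    intro R hR hJR
    haveI := hR.1.1
    haveI : (R.map (Ideal.Quotient.mk J)).IsPrime :=
      Ideal.map_isPrime_of_surjective Ideal.Quotient.mk_surjective (by rwa [Ideal.mk_ker])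
    refine ⟨⟨inferInstance, bot_le⟩, fun Q hQ hle => Ideal.map_le_iff_le_comap.2 ?_⟩
    haveI := hQ.1
    refine hR.2 ⟨Ideal.IsPrime.comap _, bot_le⟩ ?_
    refine (Ideal.comap_mono hle).trans ?_
    rw [Ideal.comap_map_mk hJR]
  have key := eq_of_mem_minimalPrimes (D := S ⧸ q) (E := E) (fun N z => by
      obtain ⟨y, rfl⟩ := Ideal.Quotient.mk_surjective z
      obtain ⟨d, hd⟩ := hdense N y
      refine ⟨Ideal.Quotient.mk q d, ?_⟩
      rw [← hmapE N]
      have := Ideal.mem_map_of_mem (Ideal.Quotient.mk J) hd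
      rw [map_sub] at this
      exact this) (by
      have := hmapE 1
      rw [pow_one, pow_one, hmax] at this
      rw [← this]
      exact IsLocalRing.map_maximalIdeal_of_surjective _ Ideal.Quotient.mk_surjective)
    (hmin hP hJP) (hmin hP' hJP') (fun Q hQ hlt => by
      haveI := hQ
      have hlt' : P < Q.comap (Ideal.Quotient.mk J) := by
        refine lt_of_le_of_ne (Ideal.map_le_iff_le_comap.1 hlt.le) fun heq => hlt.ne ?_
        rw [heq, Ideal.map_comap_of_surjective _ Ideal.Quotient.mk_surjective]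
      have := hdim _ (Ideal.IsPrime.comap _) hlt'
      rw [← Ideal.map_comap_of_surjective (Ideal.Quotient.mk J) Ideal.Quotient.mk_surjective Q, this]
      exact IsLocalRing.map_maximalIdeal_of_surjective _ Ideal.Quotient.mk_surjective)
  have := congrArg (Ideal.comap (Ideal.Quotient.mk J)) key
  rwa [Ideal.comap_map_mk hJP', Ideal.comap_map_mk hJP] at this


/-- The fibre form: two primes with the same contraction, different from the maximal ideal, cannot be
separated on the punctured spectrum. -/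
theorem false_of_separated_comap {S C : Type u} [CommRing S] [HenselianLocalRing S] [IsNoetherianRing S]
    [CommRing C] [IsLocalRing C] [IsNoetherianRing C] [Algebra S C] [Module.Flat S C]
    [IsLocalHom (algebraMap S C)]
    (hdense : ∀ (N : ℕ) (z : C), ∃ d : S, z - algebraMap S C d ∈ (maximalIdeal S).map (algebraMap S C) ^ N)
    (hmax : (maximalIdeal S).map (algebraMap S C) = maximalIdeal C)
    {I₁ I₂ P P' : Ideal C} (hmul : I₁ * I₂ = ⊥) (hrad : maximalIdeal C ≤ (I₁ ⊔ I₂).radical)
    (hP : P.IsPrime) (hP' : P'.IsPrime) (h₁ : I₁ ≤ P) (h₂ : I₂ ≤ P') (hPne : P ≠ maximalIdeal C)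
    (h : P'.comap (algebraMap S C) = P.comap (algebraMap S C)) : False := by
  haveI := hP
  haveI := hP'
  set q := P.comap (algebraMap S C) with hq
  let J := q.map (algebraMap S C)
  let E := C ⧸ J
  have hJP : J ≤ P := Ideal.map_le_iff_le_comap.2 le_rfl
  have hJP' : J ≤ P' := Ideal.map_le_iff_le_comap.2 h.ge
  haveI : Nontrivial E := Ideal.Quotient.nontrivial_iff.2 fun htop =>
    (inferInstance : P.IsPrime).ne_top (top_le_iff.1 (htop ▸ hJP))
  haveI : IsLocalRing E := IsLocalRing.of_surjective' _ Ideal.Quotient.mk_surjective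
  haveI : HenselianLocalRing (S ⧸ q) :=
    Groth.Agent.AzInvLib.henselianLocalRing_of_surjective (Ideal.Quotient.mk q) Ideal.Quotient.mk_surjective
  letI : Algebra (S ⧸ q) E := (Ideal.quotientMap J (algebraMap S C) Ideal.le_comap_map).toAlgebra
  haveI : IsScalarTower S (S ⧸ q) E := .of_algebraMap_eq' rfl
  haveI : Module.Flat (S ⧸ q) E := by
    let e₀ : (S ⧸ q) ⊗[S] C ≃ₗ[S] E :=
      (TensorProduct.quotTensorEquivQuotSMul C q).trans
        ((Submodule.quotEquivOfEq _ _ (Ideal.smul_top_eq_map (S := C) q)).trans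
          (Submodule.Quotient.restrictScalarsEquiv S (J : Submodule C C)))
    exact Module.Flat.of_linearEquiv (e₀.extendScalarsOfSurjective Ideal.Quotient.mk_surjective).symm
  haveI : IsLocalHom (Ideal.Quotient.mk J) := Ideal.Quotient.mk_surjective.isLocalHom _
  haveI : IsLocalHom (algebraMap (S ⧸ q) E) := ⟨fun a ha => by
    obtain ⟨s, rfl⟩ := Ideal.Quotient.mk_surjective a
    have : IsUnit (Ideal.Quotient.mk J (algebraMap S C s)) := ha
    exact ((isUnit_of_map_unit (algebraMap S C) s (isUnit_of_map_unit _ _ this))).map _⟩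
  have hmapS : (maximalIdeal S).map (Ideal.Quotient.mk q) = maximalIdeal (S ⧸ q) :=
    IsLocalRing.map_maximalIdeal_of_surjective _ Ideal.Quotient.mk_surjective
  have hmapC : (maximalIdeal C).map (Ideal.Quotient.mk J) = maximalIdeal E :=
    IsLocalRing.map_maximalIdeal_of_surjective _ Ideal.Quotient.mk_surjective
  have hmapE : ∀ N : ℕ, ((maximalIdeal S).map (algebraMap S C) ^ N).map (Ideal.Quotient.mk J) =
      (maximalIdeal (S ⧸ q)).map (algebraMap (S ⧸ q) E) ^ N := fun N => by
    rw [← hmapS, Ideal.map_pow, Ideal.map_map, Ideal.map_map]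
    rfl
  have hfld : maximalIdeal (S ⧸ q) ≠ ⊥ := fun hbot => hPne (by
    rw [← hmapS, Ideal.map_eq_bot_iff_le_ker, Ideal.mk_ker] at hbot
    refine le_antisymm (le_maximalIdeal hP.ne_top) ?_
    rw [← hmax]
    exact (Ideal.map_mono hbot).trans hJP)
  have hprime : ∀ {R : Ideal C}, R.IsPrime → J ≤ R → R.comap (algebraMap S C) = q →
      (R.map (Ideal.Quotient.mk J)).IsPrime ∧
        (R.map (Ideal.Quotient.mk J)).comap (algebraMap (S ⧸ q) E) = ⊥ := by
    intro R hR hJR hRq
    haveI := hR
    refine ⟨Ideal.map_isPrime_of_surjective Ideal.Quotient.mk_surjective (by rwa [Ideal.mk_ker]), ?_⟩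
    rw [eq_bot_iff]
    intro a ha
    obtain ⟨s, rfl⟩ := Ideal.Quotient.mk_surjective a
    rw [Ideal.mem_bot, Ideal.Quotient.eq_zero_iff_mem, ← hRq, Ideal.mem_comap]
    have h1 : algebraMap S C s ∈ (R.map (Ideal.Quotient.mk J)).comap (Ideal.Quotient.mk J) := ha
    rwa [Ideal.comap_map_mk hJR] at h1
  obtain ⟨i1, hc1⟩ := hprime hP hJP rfl
  obtain ⟨i2, hc2⟩ := hprime hP' hJP' h
  refine false_of_separated (D := S ⧸ q) (E := E) (fun N z => ?_) ?_ hfld
    (I₁ := I₁.map (Ideal.Quotient.mk J)) (I₂ := I₂.map (Ideal.Quotient.mk J)) ?_ ?_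
    (Ideal.map_mono h₁) (Ideal.map_mono h₂) hc1 hc2
  · obtain ⟨y, rfl⟩ := Ideal.Quotient.mk_surjective z
    obtain ⟨d, hd⟩ := hdense N y
    refine ⟨Ideal.Quotient.mk q d, ?_⟩
    rw [← hmapE N]
    have := Ideal.mem_map_of_mem (Ideal.Quotient.mk J) hd
    rw [map_sub] at this
    exact this
  · have := hmapE 1
    rw [pow_one, pow_one, hmax] at this
    rw [← this, hmapC]
  · rw [← Ideal.map_mul, hmul, Ideal.map_bot]
  · rw [← hmapC, ← Ideal.map_sup]
    exact (Ideal.map_mono hrad).trans (Ideal.map_radical_le _)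

/-- The punctured spectra of a henselian local ring and of a dense flat extension are preconnected
together. -/
theorem isPreconnected_punctured_iff {S C : Type u} [CommRing S] [HenselianLocalRing S] [IsNoetherianRing S]
    [CommRing C] [IsLocalRing C] [IsNoetherianRing C] [Algebra S C] [Module.Flat S C]
    [IsLocalHom (algebraMap S C)]
    (hdense : ∀ (N : ℕ) (z : C), ∃ d : S, z - algebraMap S C d ∈ (maximalIdeal S).map (algebraMap S C) ^ N)
    (hmax : (maximalIdeal S).map (algebraMap S C) = maximalIdeal C) :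
    IsPreconnected ({closedPoint C}ᶜ : Set (PrimeSpectrum C)) ↔
      IsPreconnected ({closedPoint S}ᶜ : Set (PrimeSpectrum S)) := by
  haveI : Module.FaithfullyFlat S C := Module.FaithfullyFlat.of_flat_of_isLocalHom
  let f := PrimeSpectrum.comap (algebraMap S C)
  have hsurj : Function.Surjective f := PrimeSpectrum.comap_surjective_of_faithfullyFlat
  have hf : ∀ Q : PrimeSpectrum C, f Q ≠ closedPoint S ↔ Q ≠ closedPoint C := fun Q => by
    refine ⟨fun h hQ => h ?_, fun h hQ => h ?_⟩
    · subst hQ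
      exact IsLocalRing.comap_closedPoint (algebraMap S C)
    · refine PrimeSpectrum.ext (le_antisymm (le_maximalIdeal Q.isPrime.ne_top) ?_)
      show maximalIdeal C ≤ Q.asIdeal
      rw [← hmax, Ideal.map_le_iff_le_comap]
      exact (congrArg PrimeSpectrum.asIdeal hQ).ge
  constructor
  · intro h
    have himg : f '' {closedPoint C}ᶜ = {closedPoint S}ᶜ := by
      refine Set.Subset.antisymm (Set.image_subset_iff.2 fun Q hQ => (hf Q).2 hQ) fun q hq => ?_
      obtain ⟨Q, rfl⟩ := hsurj q
      exact ⟨Q, (hf Q).1 hq, rfl⟩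
    rw [← himg]
    exact h.image f (PrimeSpectrum.continuous_comap _).continuousOn
  · intro h
    rw [isPreconnected_closed_iff]
    intro t₁ t₂ ht₁ ht₂ hcov hne₁ hne₂
    rw [PrimeSpectrum.isClosed_iff_zeroLocus_ideal] at ht₁ ht₂
    obtain ⟨J₁, rfl⟩ := ht₁
    obtain ⟨J₂, rfl⟩ := ht₂
    by_contra hemp
    rw [Set.not_nonempty_iff_eq_empty] at hemp
    have hsep : ∀ Q : PrimeSpectrum C, J₁ ≤ Q.asIdeal → J₂ ≤ Q.asIdeal → Q = closedPoint C :=
      fun Q h1 h2 => by
        by_contra hQ
        exact (Set.mem_empty_iff_false Q).1 (hemp ▸ (⟨hQ, h1, h2⟩ : Q ∈ {closedPoint C}ᶜ ∩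
          (PrimeSpectrum.zeroLocus (J₁ : Set C) ∩ PrimeSpectrum.zeroLocus (J₂ : Set C))))
    have hnil : J₁ * J₂ ≤ nilradical C := by
      rw [nilradical_eq_sInf, le_sInf_iff]
      intro Q hQ
      haveI : Q.IsPrime := hQ
      by_cases hQm : (⟨Q, hQ⟩ : PrimeSpectrum C) = closedPoint C
      · obtain ⟨R, hR, hR1⟩ := hne₁
        rw [show Q = maximalIdeal C from congrArg PrimeSpectrum.asIdeal hQm]
        exact Ideal.mul_le_left.trans (hR1.trans (le_maximalIdeal R.isPrime.ne_top))
      · rcases hcov hQm with h1 | h1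
        · exact Ideal.mul_le_left.trans h1
        · exact Ideal.mul_le_right.trans h1
    obtain ⟨k, hk⟩ := IsNoetherianRing.isNilpotent_nilradical C
    have hk1 : J₁ ^ (k + 1) * J₂ ^ (k + 1) = ⊥ := le_bot_iff.1 <| by
      rw [← mul_pow]
      exact ((Ideal.pow_le_pow_right k.le_succ).trans (Ideal.pow_right_mono hnil k)).trans hk.le
    have hrad : maximalIdeal C ≤ (J₁ ^ (k + 1) ⊔ J₂ ^ (k + 1)).radical := by
      rw [Ideal.radical_eq_sInf, le_sInf_iff]
      rintro Q ⟨hQle, hQ⟩
      have := hsep ⟨Q, hQ⟩ (hQ.le_of_pow_le (le_sup_left.trans hQle))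
        (hQ.le_of_pow_le (le_sup_right.trans hQle))
      exact (congrArg PrimeSpectrum.asIdeal this).ge
    have hfib : ∀ Q Q' : PrimeSpectrum C, Q ≠ closedPoint C → J₁ ≤ Q.asIdeal → J₂ ≤ Q'.asIdeal →
        f Q' = f Q → False := fun Q Q' hQ h1 h2 he =>
      false_of_separated_comap hdense hmax hk1 hrad Q.isPrime Q'.isPrime
        ((Ideal.pow_le_self (Nat.succ_ne_zero k)).trans h1)
        ((Ideal.pow_le_self (Nat.succ_ne_zero k)).trans h2)
        (fun hh => hQ (PrimeSpectrum.ext hh)) (congrArg PrimeSpectrum.asIdeal he)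
    let a₁ := J₁.comap (algebraMap S C)
    let a₂ := J₂.comap (algebraMap S C)
    rw [isPreconnected_closed_iff] at h
    obtain ⟨q, hq, hq1, hq2⟩ := h (PrimeSpectrum.zeroLocus (a₁ : Set S))
      (PrimeSpectrum.zeroLocus (a₂ : Set S)) (PrimeSpectrum.isClosed_zeroLocus _)
      (PrimeSpectrum.isClosed_zeroLocus _) (fun q hq => by
        obtain ⟨Q, rfl⟩ := hsurj q
        rcases hcov ((hf Q).1 hq) with h1 | h1
        · exact .inl (Ideal.comap_mono (f := algebraMap S C) h1)
        · exact .inr (Ideal.comap_mono (f := algebraMap S C) h1))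
      (by
        obtain ⟨Q, hQ, h1⟩ := hne₁
        exact ⟨f Q, (hf Q).2 hQ, Ideal.comap_mono (f := algebraMap S C) h1⟩)
      (by
        obtain ⟨Q, hQ, h1⟩ := hne₂
        exact ⟨f Q, (hf Q).2 hQ, Ideal.comap_mono (f := algebraMap S C) h1⟩)
    obtain ⟨Q, hQq⟩ := hsurj q
    have hQne : Q ≠ closedPoint C := (hf Q).1 (hQq ▸ hq)
    have hpart : ∀ J J' : Ideal C, (∀ R : PrimeSpectrum C, R ≠ closedPoint C →
        J ≤ R.asIdeal ∨ J' ≤ R.asIdeal) → (∀ R R' : PrimeSpectrum C, R ≠ closedPoint C →
          R' ≠ closedPoint C → J ≤ R.asIdeal → J' ≤ R'.asIdeal → f R' = f R → False) →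
        J.comap (algebraMap S C) ≤ q.asIdeal → J ≤ Q.asIdeal := by
      intro J J' hc hf' hJq
      haveI := q.isPrime
      haveI := Q.isPrime
      obtain ⟨q₀, hq₀, hle⟩ := Ideal.exists_minimalPrimes_le hJq
      haveI := hq₀.1.1
      obtain ⟨R₁, hR₁, hJR₁, hR₁q⟩ := Ideal.exists_comap_eq_of_mem_minimalPrimes (algebraMap S C) q₀ hq₀
      haveI : Q.asIdeal.LiesOver q.asIdeal := ⟨(congrArg PrimeSpectrum.asIdeal hQq).symm⟩
      obtain ⟨R₀, hR₀Q, hR₀, hR₀l⟩ := Ideal.exists_ideal_le_liesOver_of_le Q.asIdeal hle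
      have hqm : q ≠ closedPoint S := hq
      have hq₀m : q₀ ≠ maximalIdeal S := fun hh => hqm (PrimeSpectrum.ext
        (le_antisymm (le_maximalIdeal q.isPrime.ne_top) (hh.ge.trans hle)))
      have hR₀m : (⟨R₀, hR₀⟩ : PrimeSpectrum C) ≠ closedPoint C := (hf _).1 fun hh =>
        hq₀m (hR₀l.over.trans (congrArg PrimeSpectrum.asIdeal hh))
      have hR₁m : (⟨R₁, hR₁⟩ : PrimeSpectrum C) ≠ closedPoint C := (hf _).1 fun hh =>
        hq₀m (hR₁q.symm.trans (congrArg PrimeSpectrum.asIdeal hh))
      rcases hc _ hR₀m with h0 | h0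
      · exact h0.trans hR₀Q
      · exact (hf' ⟨R₁, hR₁⟩ ⟨R₀, hR₀⟩ hR₁m hR₀m hJR₁ h0
          (PrimeSpectrum.ext (hR₀l.over.symm.trans hR₁q.symm))).elim
    exact hQne (hsep Q (hpart J₁ J₂ (fun R hR => hcov hR) (fun R R' hR _ => hfib R R' hR) hq1)
      (hpart J₂ J₁ (fun R hR => (hcov hR).symm) (fun R R' _ hR' h1 h2 he => hfib R' R hR' h2 h1 he.symm) hq2))

end Groth.Agent.HenGeomInt
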