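import Groth.Agent.Catenary61.Formal
import Groth.Agent.EGA4Lib.Hyperplane
import Groth.Agent.Hensel.Completion
import Groth.Agent.Hensel.FormallyCatenary

/-!
# Formally equidimensional local rings are formally catenary (EGA IV 7.1.9)
-/

set_option autoImplicit false
set_option linter.style.haveILetI false

universe u

open IsLocalRing

namespace Groth.Agent.HenGeomInt

/-- In a catenary equidimensional local ring `ht P + dim R/P = dim R`. -/
theorem height_add_dim_quotient {C : Type u} [CommRing C] [IsLocalRing C] [IsNoetherianRing C]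
    (hcat : CAlg.IsCatenary C) (heq : EGA4.IsEquidim C) (P : Ideal C) [hP : P.IsPrime] :
    ∃ L : ℕ, ringKrullDim (C ⧸ P) = L ∧ (P.height.toNat : ℤ) + L = (maximalIdeal C).height.toNat := by
  haveI : IsLocalRing (C ⧸ P) := IsLocalRing.of_surjective' (Ideal.Quotient.mk P) Ideal.Quotient.mk_surjective
  have hcatP : CAlg.IsCatenary (C ⧸ P) :=
    PtTop.Catenary.isCatenary_of_surjective _ Ideal.Quotient.mk_surjective hcat
  have heqP : EGA4.IsEquidim (C ⧸ P) := fun q hq => by
    rw [le_bot_iff.1 (hq.2 ⟨Ideal.isPrime_bot, le_rfl⟩ bot_le)]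
    exact ringKrullDim_eq_of_ringEquiv (RingEquiv.quotientBot _)
  let z : PrimeSpectrum (C ⧸ P) := ⟨⊥, Ideal.isPrime_bot⟩
  obtain ⟨s, hs1, hs2, hs3⟩ := Catenary61.exists_saturated (P := PrimeSpectrum (C ⧸ P)) hcatP
    (show z ≤ closedPoint (C ⧸ P) from (bot_le : (⊥ : Ideal (C ⧸ P)) ≤ _))
  have hlen := EGA4Lib.length_eq_ringKrullDim hcatP heqP s hs3
    (by rw [hs1]; exact ⟨⟨Ideal.isPrime_bot, le_rfl⟩, fun q _ _ => bot_le⟩) hs2
  let g : PrimeSpectrum (C ⧸ P) ↪o PrimeSpectrum C :=
    OrderEmbedding.ofMapLEIff (PrimeSpectrum.comap (Ideal.Quotient.mk P)) fun a b => ⟨fun h => by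
      have := Ideal.map_mono (f := Ideal.Quotient.mk P) h
      rwa [PrimeSpectrum.comap_asIdeal, PrimeSpectrum.comap_asIdeal,
        Ideal.map_comap_of_surjective _ Ideal.Quotient.mk_surjective,
        Ideal.map_comap_of_surjective _ Ideal.Quotient.mk_surjective] at this,
      fun h => Ideal.comap_mono h⟩
  have hg : (Set.range g).OrdConnected := by
    rw [OrderEmbedding.coe_ofMapLEIff,
      range_comap_of_surjective _ (Ideal.Quotient.mk P) Ideal.Quotient.mk_surjective]
    exact ⟨fun a ha _ _ w hw => fun r hr => hw.1 (ha hr)⟩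
  let t := s.map g g.strictMono
  have ht : PtTop.Catenary.Saturated t := (PtTop.Catenary.saturated_map_iff g hg s).2 hs3
  have hrank : ∀ a b : PrimeSpectrum C, a ⋖ b →
      ((b.asIdeal.height).toNat : ℤ) = (a.asIdeal.height).toNat + 1 := fun a b hab => by
    rw [EGA4Lib.height_succ_of_covBy hcat heq a b hab,
      ENat.toNat_add (Ideal.height_ne_top a.2.ne_top) ENat.one_ne_top]
    simp
  have he := PtTop.Catenary.length_eq_rank_sub
    (fun q : PrimeSpectrum C => ((q.asIdeal.height).toNat : ℤ)) hrank t ht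
  have h1 : t.head.asIdeal = P := by
    show (g s.head).asIdeal = P
    rw [hs1]
    show Ideal.comap (Ideal.Quotient.mk P) ⊥ = P
    exact Ideal.mk_ker
  have h2 : t.last.asIdeal = maximalIdeal C := by
    show (g s.last).asIdeal = _
    rw [hs2]
    haveI : (closedPoint (C ⧸ P)).asIdeal.IsMaximal := IsLocalRing.maximalIdeal.isMaximal _
    exact IsLocalRing.eq_maximalIdeal
      (Ideal.comap_isMaximal_of_surjective (K := (closedPoint (C ⧸ P)).asIdeal) _ Ideal.Quotient.mk_surjective)
  refine ⟨s.length, hlen.symm, ?_⟩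
  rw [show t.length = s.length from rfl] at he
  simp only [h1, h2] at he
  omega

/-- A formally equidimensional Noetherian local ring is formally catenary. -/
theorem isFormallyCatenary_of_isFormallyEquidim {A : Type u} [CommRing A] [IsNoetherianRing A]
    [IsLocalRing A] (h : EGA4.IsFormallyEquidim A) : EGA4.IsFormallyCatenary A := by
  intro p _
  haveI : Nontrivial (A ⧸ p) := Ideal.Quotient.nontrivial_iff.2 (Ideal.IsPrime.ne_top ‹_›)
  let C := AdicCompletion (maximalIdeal A) A
  haveI : IsNoetherianRing C := RegLoc.Completion.isNoetherianRing_adicCompletion' _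
  haveI : IsAdicComplete (maximalIdeal C) C := inferInstance
  have hC : CAlg.IsCatenary C := (EGA4Lib.isExcellent_of_isAdicComplete C).2.1.2 C inferInstance
  haveI : Module.Flat A C := inferInstance
  obtain ⟨e⟩ := Hensel.nonempty_quotient_completion_equiv A p
  let f : C →+* AdicCompletion (maximalIdeal (A ⧸ p)) (A ⧸ p) :=
    e.symm.toRingHom.comp (Ideal.Quotient.mk _)
  have hf : Function.Surjective f := e.symm.surjective.comp Ideal.Quotient.mk_surjective
  have hker : RingHom.ker f = p.map (algebraMap A C) := by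
    ext x
    rw [RingHom.mem_ker]
    change e.symm (Ideal.Quotient.mk _ x) = 0 ↔ _
    rw [map_eq_zero_iff _ e.symm.injective, Ideal.Quotient.eq_zero_iff_mem]
  rw [EGA4.IsFormallyEquidim, Hensel.isEquidim_iff_of_surjective f hf, hker]
  -- every minimal prime over `p C` has the same coheight
  have key : ∀ Q ∈ (p.map (algebraMap A C)).minimalPrimes, ∃ L : ℕ,
      ringKrullDim (C ⧸ Q) = L ∧ (p.height.toNat : ℤ) + L = (maximalIdeal C).height.toNat := by
    intro Q hQ
    haveI := hQ.1.1
    have hover : Q.comap (algebraMap A C) = p := by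
      refine le_antisymm ?_ (Ideal.map_le_iff_le_comap.mp hQ.1.2)
      obtain ⟨Q', hle, hQ', hlo⟩ := Ideal.exists_ideal_le_liesOver_of_le (p := p)
        (q := Q.under A) Q (Ideal.map_le_iff_le_comap.mp hQ.1.2)
      have h2 := hQ.2 ⟨hQ', Ideal.map_le_iff_le_comap.mpr hlo.over.le⟩ hle
      exact (Ideal.comap_mono h2).trans hlo.over.ge
    obtain ⟨L, hL1, hL2⟩ := height_add_dim_quotient hC h Q
    refine ⟨L, hL1, ?_⟩
    rwa [Catenary61.height_eq_of_minimal (⟨p, inferInstance⟩ : PrimeSpectrum A) Q hQ hover] at hL2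
  intro Q hQ
  rw [ringKrullDim_eq_of_ringEquiv e, ringKrullDim_quotient (p.map (algebraMap A C))]
  refine le_antisymm ?_ ?_
  · rw [ringKrullDim_quotient Q]
    refine Order.krullDim_le_of_strictMono
      (fun x => ⟨x.1, (SetLike.coe_subset_coe.2 hQ.1.2).trans x.2⟩) fun _ _ hab => hab
  · refine iSup_le fun t => ?_
    obtain ⟨L, hL1, hL2⟩ := key Q hQ
    obtain ⟨Q', hQ', hle⟩ := Ideal.exists_minimalPrimes_le (I := p.map (algebraMap A C))
      (J := t.head.1.asIdeal) t.head.2
    obtain ⟨L', hL1', hL2'⟩ := key Q' hQ'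
    rw [hL1, show L = L' by omega, ← hL1', ringKrullDim_quotient Q']
    let t' : LTSeries (PrimeSpectrum.zeroLocus (Q' : Set C)) :=
      LTSeries.mk t.length (fun i => ⟨(t i).1, fun _ hx => (t.monotone (Fin.zero_le i)) (hle hx)⟩)
        fun i j hij => t.strictMono hij
    exact Order.LTSeries.length_le_krullDim t'

end Groth.Agent.HenGeomInt
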