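import Groth.Agent.Hensel.CplTensor
import Groth.Agent.CAlgA.GeomTensor

/-!
# Formal fibres of henselian rings with geometrically normal formal fibres are geometrically integral
-/

set_option autoImplicit false
set_option linter.style.haveILetI false

universe u

open TensorProduct IsLocalRing

namespace Groth.Agent.HenGeomInt

variable {A : Type u} [CommRing A] [IsNoetherianRing A] [HenselianLocalRing A]

/-- `Ω ⊗ Â` is a domain, for an algebraic closure `Ω` of `κ(p)`. -/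
theorem isDomain_algClosure_tensor (h : EGA4.HasGeomNormalFormalFibres A) (p : Ideal A) [p.IsPrime]
    (Ω : Type u) [Field Ω] [Algebra p.ResidueField Ω] [Algebra A Ω] [IsScalarTower A p.ResidueField Ω]
    [Algebra.IsAlgebraic p.ResidueField Ω] : IsDomain (Ω ⊗[A] EGA4.Cpl A) := by
  let C := integralClosure A Ω
  haveI : Algebra.IsIntegral A C := ⟨fun x => (isIntegral_algHom_iff C.val Subtype.val_injective).1 x.2⟩
  letI : Algebra (A ⧸ p) Ω :=
    ((algebraMap p.ResidueField Ω).comp (algebraMap (A ⧸ p) p.ResidueField)).toAlgebra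
  haveI : IsScalarTower (A ⧸ p) p.ResidueField Ω := IsScalarTower.of_algebraMap_eq fun _ => rfl
  haveI : IsScalarTower A (A ⧸ p) Ω := IsScalarTower.of_algebraMap_eq fun a => by
    rw [IsScalarTower.algebraMap_apply A p.ResidueField Ω,
      IsScalarTower.algebraMap_apply A (A ⧸ p) p.ResidueField]
    rfl
  have hinjΩ : Function.Injective (algebraMap (A ⧸ p) Ω) :=
    (algebraMap p.ResidueField Ω).injective.comp (IsFractionRing.injective (A ⧸ p) p.ResidueField)
  have hmul : ∀ x : Ω, ∃ c d : C, (d : Ω) ≠ 0 ∧ (d : Ω) * x = c := by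
    intro x
    obtain ⟨y, hy0, hy⟩ := ((IsFractionRing.isAlgebraic_iff (A ⧸ p) p.ResidueField Ω).2
      (Algebra.IsAlgebraic.isAlgebraic x)).exists_integral_multiple
    obtain ⟨a, rfl⟩ := Ideal.Quotient.mk_surjective y
    have h1 : IsIntegral A (algebraMap A Ω a * x) := by
      have := isIntegral_trans (R := A) _ hy
      rwa [Algebra.smul_def, ← Ideal.Quotient.algebraMap_eq,
        ← IsScalarTower.algebraMap_apply] at this
    refine ⟨⟨_, h1⟩, algebraMap A C a, ?_, rfl⟩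
    show algebraMap A Ω a ≠ 0
    rw [IsScalarTower.algebraMap_apply A (A ⧸ p) Ω]
    exact (map_ne_zero_iff _ hinjΩ).2 hy0
  haveI : IsFractionRing C Ω := IsFractionRing.of_field C Ω fun x => by
    obtain ⟨c, d, hd, hcd⟩ := hmul x
    exact ⟨c, d, by rw [show algebraMap C Ω c = (c : Ω) from rfl, ← hcd]; exact
      (eq_div_iff hd).2 (mul_comm _ _)⟩
  haveI : IsIntegrallyClosed C := by
    refine (isIntegrallyClosed_iff Ω).2 fun {x} hx => ?_
    exact ⟨⟨x, isIntegral_trans (R := A) x hx⟩, rfl⟩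
  haveI := Hensel.isDomain_tensor_cpl h C
  let φ : C ⊗[A] EGA4.Cpl A →ₐ[A] Ω ⊗[A] EGA4.Cpl A :=
    Algebra.TensorProduct.map C.val (AlgHom.id A (EGA4.Cpl A))
  have hφ : Function.Injective φ :=
    Module.Flat.rTensor_preserves_injective_linearMap (M := EGA4.Cpl A) C.val.toLinearMap
      Subtype.val_injective
  have hnum : ∀ z : Ω ⊗[A] EGA4.Cpl A, ∃ (d : Ω) (w : C ⊗[A] EGA4.Cpl A), d ≠ 0 ∧
      (d ⊗ₜ[A] (1 : EGA4.Cpl A)) * z = φ w := by
    intro z
    induction z using TensorProduct.induction_on with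
    | zero => exact ⟨1, 0, one_ne_zero, by rw [mul_zero, map_zero]⟩
    | tmul x b =>
      obtain ⟨c, d, hd, hcd⟩ := hmul x
      exact ⟨d, c ⊗ₜ b, hd, by
        rw [Algebra.TensorProduct.tmul_mul_tmul, one_mul, hcd]; rfl⟩
    | add z₁ z₂ h₁ h₂ =>
      obtain ⟨d₁, w₁, hd₁, e₁⟩ := h₁
      obtain ⟨d₂, w₂, hd₂, e₂⟩ := h₂
      obtain ⟨c₁, d₁', hd₁', f₁⟩ := hmul d₁
      obtain ⟨c₂, d₂', hd₂', f₂⟩ := hmul d₂
      refine ⟨(c₁ : Ω) * c₂, ((d₁' * c₂) ⊗ₜ[A] 1) * w₁ + ((c₁ * d₂') ⊗ₜ[A] 1) * w₂,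
        mul_ne_zero (f₁ ▸ mul_ne_zero hd₁' hd₁) (f₂ ▸ mul_ne_zero hd₂' hd₂), ?_⟩
      rw [map_add, map_mul, map_mul, mul_add, ← e₁, ← e₂, ← mul_assoc, ← mul_assoc]
      simp only [φ, Algebra.TensorProduct.map_tmul, AlgHom.coe_id, id_eq,
        Algebra.TensorProduct.tmul_mul_tmul, one_mul, Subalgebra.coe_val, MulMemClass.coe_mul,
        ← f₁, ← f₂]
      congr 3 <;> ring
  haveI : Nontrivial (Ω ⊗[A] EGA4.Cpl A) := hφ.nontrivial
  haveI : NoZeroDivisors (Ω ⊗[A] EGA4.Cpl A) := ⟨fun {z z'} hzz => by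
    obtain ⟨d, w, hd, e⟩ := hnum z
    obtain ⟨d', w', hd', e'⟩ := hnum z'
    have hu : ∀ d : Ω, d ≠ 0 → IsUnit (d ⊗ₜ[A] (1 : EGA4.Cpl A)) := fun d hd =>
      (isUnit_iff_ne_zero.2 hd).map (Algebra.TensorProduct.includeLeft : Ω →ₐ[A] Ω ⊗[A] EGA4.Cpl A)
    have h0 : w * w' = 0 := hφ (by
      rw [map_mul, ← e, ← e', map_zero, mul_mul_mul_comm, hzz, mul_zero])
    rcases mul_eq_zero.1 h0 with h0 | h0
    · left; rw [h0, map_zero] at e; exact (hu d hd).mul_right_eq_zero.1 e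
    · right; rw [h0, map_zero] at e'; exact (hu d' hd').mul_right_eq_zero.1 e'⟩
  exact NoZeroDivisors.to_isDomain _

theorem isDomain_baseChange_formalFibre (h : EGA4.HasGeomNormalFormalFibres A) (p : Ideal A) [p.IsPrime]
    (K : Type u) [Field K] [Algebra p.ResidueField K] :
    IsDomain (K ⊗[p.ResidueField] EGA4.formalFibre A p) := by
  haveI := isDomain_algClosure_tensor h p (AlgebraicClosure p.ResidueField)
  haveI : IsDomain (AlgebraicClosure p.ResidueField ⊗[p.ResidueField] EGA4.formalFibre A p) :=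
    (Algebra.TensorProduct.cancelBaseChange A p.ResidueField (AlgebraicClosure p.ResidueField)
      (AlgebraicClosure p.ResidueField) (EGA4.Cpl A)).toMulEquiv.isDomain _
  exact CAlgA.GeomTensor.isDomain_of_algebraicClosure K

end Groth.Agent.HenGeomInt
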