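import Groth.Prelude.Def_EGA4b
import Mathlib.RingTheory.Localization.LocalizationLocalization
import Mathlib.RingTheory.Spectrum.Prime.Topology

/-!
# A normal Noetherian ring without idempotents is a domain
-/

set_option autoImplicit false
universe u

namespace Groth.Agent.HenGeomInt

variable {R : Type u} [CommRing R]

theorem idempotent_trivial_of_connected [ConnectedSpace (PrimeSpectrum R)] (e : R) (he : e * e = e) :
    e = 0 ∨ e = 1 := by
  have hc : IsClopen ((PrimeSpectrum.basicOpen e : TopologicalSpace.Opens (PrimeSpectrum R)) : Set (PrimeSpectrum R)) :=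
    PrimeSpectrum.isClopen_basicOpen_of_mul_add e (1 - e) (by rw [mul_sub, mul_one, he, sub_self]) (by ring)
  rcases isClopen_iff.1 hc with h | h
  · left
    have h' : PrimeSpectrum.basicOpen e = ⊥ := TopologicalSpace.Opens.ext h
    obtain ⟨n, hn⟩ := PrimeSpectrum.basicOpen_eq_bot_iff e |>.1 h'
    cases n with
    | zero => rw [← mul_one e, ← pow_zero e, hn, mul_zero]
    | succ n =>
      have hp : ∀ m : ℕ, e ^ (m + 1) = e := fun m => by
        induction m with
        | zero => simp
        | succ m ih => rw [pow_succ, ih, he]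
      rw [← hp n, hn]
  · right
    have hu : IsUnit e := by
      by_contra hne
      obtain ⟨m, hm, hem⟩ := exists_max_ideal_of_mem_nonunits hne
      have : (⟨m, hm.isPrime⟩ : PrimeSpectrum R) ∈ (PrimeSpectrum.basicOpen e : Set (PrimeSpectrum R)) :=
        h ▸ Set.mem_univ _
      exact this hem
    exact hu.mul_left_cancel (he.trans (mul_one e).symm)

theorem connectedSpace_of_idempotent_trivial [Nontrivial R] (h : ∀ e : R, e * e = e → e = 0 ∨ e = 1) :
    ConnectedSpace (PrimeSpectrum R) := by
  haveI : PreconnectedSpace (PrimeSpectrum R) := preconnectedSpace_iff_clopen.2 fun s hs => by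
    obtain ⟨e, he, hse⟩ := PrimeSpectrum.exists_idempotent_basicOpen_eq_of_isClopen hs
    rw [hse]
    rcases h e he with rfl | rfl
    · left; simp
    · right; simp
  exact ⟨inferInstance⟩

theorem isDomain_of_isNormalRing [IsNoetherianRing R] [Nontrivial R] (hn : EGA4.IsNormalRing R)
    (h : ∀ e : R, e * e = e → e = 0 ∨ e = 1) : IsDomain R := by
  classical
  haveI : IsReduced R := by
    refine ⟨fun x hx => ?_⟩
    refine Module.eq_zero_of_localization_maximal (fun P _ => Localization.AtPrime P)
      (fun P _ => Algebra.linearMap R _) x fun P _ => ?_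
    haveI := (hn P).1
    exact (hx.map (algebraMap R (Localization.AtPrime P))).eq_zero
  obtain ⟨P, hP⟩ := Ideal.nonempty_minimalPrimes (bot_ne_top : (⊥ : Ideal R) ≠ ⊤)
  haveI := hP.1.1
  have hfin : (minimalPrimes R).Finite := minimalPrimes.finite_of_isNoetherianRing R
  let I : Ideal R := (hfin.toFinset.erase P).inf id
  have htop : P ⊔ I = ⊤ := by
    by_contra hne
    obtain ⟨M, hM, hle⟩ := Ideal.exists_le_maximal _ hne
    haveI := hM.isPrime
    obtain ⟨Q, hQ, hQM⟩ := ((inferInstance : M.IsPrime).inf_le').1 (le_sup_right.trans hle)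
    obtain ⟨hQP, hQm⟩ := Finset.mem_erase.1 hQ
    haveI := (hn M).1
    have key : ∀ {S : Ideal R}, S ∈ minimalPrimes R → S ≤ M →
        S = (⊥ : Ideal (Localization.AtPrime M)).comap (algebraMap R _) := fun {S} hS hSM => by
      haveI := hS.1.1
      have hle' : (⊥ : Ideal (Localization.AtPrime M)).comap (algebraMap R _) ≤ S := fun y hy => by
        obtain ⟨m, hm⟩ := (IsLocalization.map_eq_zero_iff M.primeCompl (Localization.AtPrime M) y).1 hy
        exact ((inferInstance : S.IsPrime).mem_or_mem (hm ▸ S.zero_mem : (m : R) * y ∈ S)).resolve_left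
          fun hms => m.2 (hSM hms)
      exact le_antisymm (hS.2 ⟨Ideal.IsPrime.comap _, bot_le⟩ hle') hle'
    exact hQP ((key (hfin.mem_toFinset.1 hQm) hQM).trans (key hP (le_sup_left.trans hle)).symm)
  obtain ⟨e, he, f, hf, hef⟩ := Submodule.mem_sup.1 ((Ideal.eq_top_iff_one _).1 htop)
  have hzero : e * f = 0 := by
    refine IsReduced.eq_zero _ (mem_nilradical.1 ?_)
    rw [nilradical_eq_sInf, Ideal.mem_sInf]
    intro Q hQ
    haveI : Q.IsPrime := hQ
    obtain ⟨Q₀, hQ₀, hle⟩ := Ideal.exists_minimalPrimes_le (bot_le : (⊥ : Ideal R) ≤ Q)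
    by_cases hQP : Q₀ = P
    · exact Q.mul_mem_right _ (hle (hQP ▸ he))
    · exact Q.mul_mem_left _ (hle
        (Finset.inf_le (f := id) (Finset.mem_erase.2 ⟨hQP, hfin.mem_toFinset.2 hQ₀⟩) hf))
  rcases h e (by linear_combination e * hef - hzero) with h0 | h1
  · have hIt : I = ⊤ := (Ideal.eq_top_iff_one _).2 (by rw [h0, zero_add] at hef; exact hef ▸ hf)
    have hall : ∀ Q ∈ minimalPrimes R, Q = P := fun Q hQ => by
      by_contra hne
      exact hQ.1.1.ne_top (top_le_iff.1 (hIt ▸ Finset.inf_le (f := id)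
        (Finset.mem_erase.2 ⟨hne, hfin.mem_toFinset.2 hQ⟩)))
    have hbot : P = ⊥ := by
      rw [show (⊥ : Ideal R) = nilradical R from (nilradical_eq_zero R).symm, nilradical_eq_sInf]
      refine le_antisymm (le_sInf fun Q hQ => ?_) (sInf_le hP.1.1)
      haveI : Q.IsPrime := hQ
      obtain ⟨Q₀, hQ₀, hle⟩ := Ideal.exists_minimalPrimes_le (bot_le : (⊥ : Ideal R) ≤ Q)
      exact hall Q₀ hQ₀ ▸ hle
    subst hbot
    exact IsDomain.of_bot_isPrime R
  · exact absurd ((Ideal.eq_top_iff_one P).2 (h1 ▸ he)) hP.1.1.ne_top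

end Groth.Agent.HenGeomInt
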