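import Groth.Agent.HenGeomInt.PairNoeth
import Groth.Agent.Hensel.ExcellentHens
import Groth.Agent.Hensel.RegularHom
import Groth.Agent.Hensel.Completion
import Groth.Agent.S2047

/-!
# The henselization of a G-ring pair is a G-ring
-/

set_option autoImplicit false
set_option linter.style.haveILetI false
universe u

open IsLocalRing TensorProduct

namespace Groth.Agent.HenGeomInt

theorem exists_sub_mem_pairHenselization {A : Type u} [CommRing A] (I : Ideal A)
    (b : Hens.PairHenselization A I) :
    ∃ a : A, b - algebraMap A _ a ∈ I.map (algebraMap A (Hens.PairHenselization A I)) := by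
  obtain ⟨a, ha⟩ := Hens.exists_sub_mem_map_pow
    (Hens.bijective_quotientMap_of_isPairHenselization
      (Hens.isPairHenselization_pairHenselization (A := A) (I := I))).2 1 b
  rw [pow_one] at ha
  exact ⟨a, ha⟩

theorem isRegularHom_completion_pairHenselization {A : Type u} [CommRing A] (hA : CAlg.IsGRing A)
    (I : Ideal A) (M : Ideal (Hens.PairHenselization A I)) [M.IsMaximal] :
    CAlg.IsRegularHom (Localization.AtPrime M)
      (AdicCompletion (maximalIdeal (Localization.AtPrime M)) (Localization.AtPrime M)) := by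
  classical
  haveI : IsNoetherianRing A := hA.1
  haveI hBN : IsNoetherianRing (Hens.PairHenselization A I) := isNoetherianRing_pairHenselization I
  let B := Hens.PairHenselization A I
  let L := Localization.AtPrime M
  let m : Ideal A := M.comap (algebraMap A B)
  haveI : m.IsPrime := Ideal.IsPrime.comap _
  let R := Localization.AtPrime m
  haveI : IsNoetherianRing R := IsLocalization.isNoetherianRing m.primeCompl R inferInstance
  haveI : IsNoetherianRing L := IsLocalization.isNoetherianRing M.primeCompl L inferInstance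
  let φ : R →+* L := Localization.localRingHom m M (algebraMap A B) rfl
  letI : Algebra R L := φ.toAlgebra
  haveI : IsScalarTower A R L := .of_algebraMap_eq fun a => by
    rw [IsScalarTower.algebraMap_apply A B L]
    exact (Localization.localRingHom_to_map m M (algebraMap A B) rfl a).symm
  haveI : IsLocalHom (algebraMap R L) := Localization.isLocalHom_localRingHom _ _ _ rfl
  haveI : Module.Flat A B := Hens.flat_of_isPairHenselization Hens.isPairHenselization_pairHenselization
  haveI : Module.Flat B L := IsLocalization.flat L M.primeCompl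
  haveI : Module.Flat A L := Module.Flat.trans A B L
  haveI hflat : Module.Flat R L := (Module.flat_iff_of_isLocalization R m.primeCompl L).mpr inferInstance
  have hIM : I.map (algebraMap A B) ≤ M :=
    Hens.map_le_jacobson_pair.trans (sInf_le ⟨bot_le, inferInstance⟩)
  have hMm : M ≤ m.map (algebraMap A B) := fun b hb => by
    obtain ⟨a, ha⟩ := exists_sub_mem_pairHenselization I b
    have ham : a ∈ m := by
      have h := M.sub_mem hb (hIM ha)
      rwa [sub_sub_cancel] at h
    have hIm : I ≤ m := fun i hi => hIM (Ideal.mem_map_of_mem _ hi)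
    have h := Ideal.add_mem _ (Ideal.map_mono hIm ha) (Ideal.mem_map_of_mem (algebraMap A B) ham)
    rwa [sub_add_cancel] at h
  have hmax : (maximalIdeal R).map (algebraMap R L) = maximalIdeal L := by
    rw [← Localization.AtPrime.map_eq_maximalIdeal (I := m), Ideal.map_map,
      ← IsScalarTower.algebraMap_eq A R L, IsScalarTower.algebraMap_eq A B L, ← Ideal.map_map,
      ← Localization.AtPrime.map_eq_maximalIdeal (I := M)]
    exact le_antisymm (Ideal.map_mono Ideal.map_comap_le) (Ideal.map_mono hMm)
  have hstage : ∀ s : Finset L, ∃ (T : Type u) (_ : CommRing T) (_ : Algebra R T),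
      Algebra.Etale R T ∧ ∃ θ : T →ₐ[R] L, ∀ z ∈ s, z ∈ θ.range := by
    intro s
    have hsurj : ∀ z : L, ∃ (b : B) (d : M.primeCompl), z * algebraMap B L d = algebraMap B L b := fun z => by
      obtain ⟨⟨b, d⟩, h⟩ := IsLocalization.surj M.primeCompl z
      exact ⟨b, d, h⟩
    choose bz dz hbd using hsurj
    obtain ⟨S, _, _, hS, θ, hθ⟩ := Hens.exists_pairStage_finset (A := A) (I := I)
      (s.image bz ∪ s.image fun z => (dz z : B))
    choose t ht using fun z : s => hθ (dz z.1 : B)
      (Finset.mem_union_right _ (Finset.mem_image_of_mem _ z.2))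
    replace ht : ∀ z : s, θ (t z) = (dz z.1 : B) := ht
    let τ : R ⊗[A] S →ₐ[R] L :=
      Algebra.TensorProduct.lift (Algebra.ofId R L) ((IsScalarTower.toAlgHom A B L).comp θ)
        fun _ _ => Commute.all _ _
    let t₀ : R ⊗[A] S := (1 : R) ⊗ₜ[A] ∏ z : s, t z
    have hτ : ∀ x : S, τ ((1 : R) ⊗ₜ[A] x) = algebraMap B L (θ x) := fun x => by simp [τ]
    have hu : IsUnit (τ t₀) := by
      rw [hτ, map_prod, map_prod]
      exact IsUnit.prod_univ_iff.mpr fun z => by
        rw [ht z]
        exact IsLocalization.map_units L (dz z.1)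
    let T := Localization.Away t₀
    haveI : Algebra.Etale (R ⊗[A] S) T := Algebra.Etale.of_isLocalizationAway t₀
    haveI : Algebra.Etale R T := Algebra.Etale.comp R (R ⊗[A] S) T
    let θ' : T →ₐ[R] L :=
      { (IsLocalization.Away.lift t₀ (g := τ.toRingHom) hu : T →+* L) with
        commutes' := fun r => by
          show IsLocalization.Away.lift t₀ (g := τ.toRingHom) hu (algebraMap R T r) = _
          rw [IsScalarTower.algebraMap_apply R (R ⊗[A] S) T, IsLocalization.Away.lift_eq]
          exact τ.commutes r }
    have hlift : ∀ x : R ⊗[A] S, θ' (algebraMap _ T x) = τ x := fun x =>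
      IsLocalization.Away.lift_eq (g := τ.toRingHom) t₀ hu x
    refine ⟨T, inferInstance, inferInstance, inferInstance, θ', fun z hz => ?_⟩
    obtain ⟨b', hb'⟩ := hθ (bz z) (Finset.mem_union_left _ (Finset.mem_image_of_mem _ hz))
    replace hb' : θ b' = bz z := hb'
    obtain ⟨v, hv⟩ : ∃ v, algebraMap (R ⊗[A] S) T t₀ * v = 1 :=
      isUnit_iff_exists_inv.1 (IsLocalization.Away.algebraMap_isUnit t₀)
    refine ⟨algebraMap _ T ((1 : R) ⊗ₜ[A] (b' * ∏ z' ∈ Finset.univ.erase (⟨z, hz⟩ : s), t z')) * v, ?_⟩
    show θ' _ = z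
    have hv' : τ t₀ * θ' v = 1 := by rw [← hlift, ← map_mul, hv, map_one]
    rw [map_mul, hlift, hτ, map_mul, map_mul, hb', ← hbd z,
      ← ht ⟨z, hz⟩, mul_assoc z, mul_assoc z, ← map_mul, ← map_mul,
      Finset.mul_prod_erase _ _ (Finset.mem_univ _), ← hτ]
    show z * (τ t₀ * θ' v) = z
    rw [hv', mul_one]
  have h : Hensel.IsEtLike R L := ⟨hflat, hmax, hstage⟩
  have hres : ∀ z : L, ∃ r : R, z - algebraMap R L r ∈ maximalIdeal L := by
    intro z
    obtain ⟨⟨b, d⟩, hz⟩ := IsLocalization.surj M.primeCompl z
    obtain ⟨a, ha⟩ := exists_sub_mem_pairHenselization I b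
    obtain ⟨c, hc⟩ := exists_sub_mem_pairHenselization I (d : B)
    have hI : ∀ w ∈ I.map (algebraMap A B), algebraMap B L w ∈ maximalIdeal L := fun w hw => by
      rw [← Localization.AtPrime.map_eq_maximalIdeal (I := M)]
      exact Ideal.mem_map_of_mem _ (hIM hw)
    have hcm : c ∉ m := fun hcm => d.2 (by
      have h := M.add_mem (hIM hc) (show algebraMap A B c ∈ M from hcm)
      rwa [sub_add_cancel] at h)
    refine ⟨IsLocalization.mk' R a (⟨c, hcm⟩ : m.primeCompl), ?_⟩
    have hu : IsUnit (algebraMap A L c) := by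
      rw [IsScalarTower.algebraMap_apply A R L]
      exact (IsLocalization.map_units R (⟨c, hcm⟩ : m.primeCompl)).map _
    rw [← Ideal.mul_unit_mem_iff_mem _ hu, sub_mul]
    have hr : algebraMap R L (IsLocalization.mk' R a (⟨c, hcm⟩ : m.primeCompl)) * algebraMap A L c = algebraMap A L a := by
      rw [IsScalarTower.algebraMap_apply A R L c, ← map_mul, IsLocalization.mk'_spec R a (⟨c, hcm⟩ : m.primeCompl),
        ← IsScalarTower.algebraMap_apply A R L a]
    rw [hr]
    have : z * algebraMap A L c - algebraMap A L a = algebraMap B L (b - algebraMap A B a) -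
        z * algebraMap B L ((d : B) - algebraMap A B c) := by
      simp only [map_sub, ← IsScalarTower.algebraMap_apply, mul_sub]
      rw [hz]; ring
    rw [this]
    exact Ideal.sub_mem _ (hI _ ha) (Ideal.mul_mem_left _ _ (hI _ hc))
  obtain ⟨e⟩ := Hensel.nonempty_completion_equiv_of_residue h hres
  haveI := RegLoc.Completion.isNoetherianRing_adicCompletion' (maximalIdeal L)
  rw [h.isRegularHom_iff]
  exact Hensel.isRegularHom_congr e (hA.2 m)

end Groth.Agent.HenGeomInt
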